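import Mathlib

/-!
# The series identity for counting unipotent elements of symplectic groups
-/

set_option autoImplicit false

namespace Cfsg.Agent.SpUnip

open Finset PowerSeries

/-- `1 / ((q - 1) ⋯ (q^r - 1))` -/
def eC (q : ℚ) (r : ℕ) : ℚ := (∏ i ∈ range r, (q ^ (i + 1) - 1))⁻¹

/-- `Q^(s choose 2) / ((Q - 1) ⋯ (Q^s - 1))`, `Q = q²` -/
def aC (q : ℚ) (s : ℕ) : ℚ := (q ^ 2) ^ s.choose 2 / ∏ i ∈ range s, ((q ^ 2) ^ (i + 1) - 1)

/-- the predicted number of unipotents over the group order -/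
def bC (q : ℚ) (n : ℕ) : ℚ := q ^ n * aC q n

/-- the predicted normalised count of pairs -/
def tC (q : ℚ) (m d : ℕ) : ℚ :=
  ∑ s ∈ range (m + 1), if 2 * s ≤ d ∧ d ≤ m + s then eC q (d - 2 * s) * aC q s * bC q (m + s - d) else 0

variable {q : ℚ}

theorem eC_succ (hq : 1 < q) (r : ℕ) : (q ^ (r + 1) - 1) * eC q (r + 1) = eC q r := by
  have h : q ^ (r + 1) - 1 ≠ 0 := sub_ne_zero.2 (one_lt_pow₀ hq (by omega)).ne'
  rw [eC, eC, prod_range_succ, mul_inv, mul_comm, mul_assoc, inv_mul_cancel₀ h, mul_one]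

theorem aC_succ (hq : 1 < q) (s : ℕ) : ((q ^ 2) ^ (s + 1) - 1) * aC q (s + 1) = (q ^ 2) ^ s * aC q s := by
  have hQ : 1 < q ^ 2 := one_lt_pow₀ hq (by omega)
  have h : (q ^ 2) ^ (s + 1) - 1 ≠ 0 := sub_ne_zero.2 (one_lt_pow₀ hQ (by omega)).ne'
  have hc : (s + 1).choose 2 = s.choose 2 + s := by rw [Nat.choose_succ_succ, Nat.choose_one_right, add_comm]
  have hP : ∏ i ∈ range s, ((q ^ 2) ^ (i + 1) - 1) ≠ 0 :=
    prod_ne_zero_iff.2 fun i _ => sub_ne_zero.2 (one_lt_pow₀ hQ (by omega)).ne'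
  rw [aC, aC, prod_range_succ, hc, pow_add (q ^ 2) (s.choose 2) s, mul_div_assoc', mul_div_assoc',
    div_eq_div_iff (mul_ne_zero hP h) hP]
  ring

theorem tC_zero (m : ℕ) : tC q m 0 = bC q m := by
  rw [tC, sum_eq_single 0 (fun s _ hs => if_neg (by omega)) (by simp)]
  simp [eC, aC]

theorem tC_succ (hq : 1 < q) (m k : ℕ) :
    (q ^ (k + 1) - 1) * tC q (m + 1) (k + 1) =
      tC q m k + if 1 ≤ k then q ^ (k - 1) * tC q m (k - 1) else 0 := by
  let X : ℕ → ℚ := fun s => if 2 * s ≤ k ∧ k ≤ m + s then eC q (k - 2 * s) * aC q s * bC q (m + s - k) else 0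
  let Y : ℕ → ℚ := fun s => if 1 ≤ s ∧ 2 * s ≤ k + 1 ∧ k + 1 ≤ m + 1 + s then
    q ^ (k - 1) * (eC q (k + 1 - 2 * s) * aC q (s - 1) * bC q (m + s - k)) else 0
  have hterm : ∀ s, (q ^ (k + 1) - 1) * (if 2 * s ≤ k + 1 ∧ k + 1 ≤ m + 1 + s then
      eC q (k + 1 - 2 * s) * aC q s * bC q (m + 1 + s - (k + 1)) else 0) = X s + Y s := by
    intro s
    simp only [X, Y]
    by_cases h : 2 * s ≤ k + 1 ∧ k + 1 ≤ m + 1 + s
    swap
    · rw [if_neg h, if_neg (by omega), if_neg (by omega)]; ring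
    rw [if_pos h, show m + 1 + s - (k + 1) = m + s - k by omega]
    obtain ⟨h1, h2⟩ := h
    set r := k + 1 - 2 * s with hr
    have hk : k + 1 = r + 2 * s := by omega
    rcases Nat.eq_zero_or_pos s with rfl | hs
    · rw [if_pos (by omega), if_neg (by omega), show r = k + 1 by omega, show k - 2 * 0 = k by omega,
        show aC q 0 = 1 by simp [aC], ← eC_succ hq k]
      ring
    obtain ⟨s', rfl⟩ : ∃ s', s = s' + 1 := ⟨s - 1, by omega⟩
    rw [if_pos (show 1 ≤ s' + 1 ∧ 2 * (s' + 1) ≤ k + 1 ∧ k + 1 ≤ m + 1 + (s' + 1) by omega), Nat.add_sub_cancel]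
    have e2 : (q ^ (k + 1)) = q ^ r * (q ^ 2) ^ (s' + 1) := by rw [hk, pow_add, pow_mul]
    have e3 : q ^ (k - 1) = q ^ r * (q ^ 2) ^ s' := by rw [← pow_mul, ← pow_add]; congr 1; omega
    have e4 : (q ^ (k + 1) - 1) * (eC q r * aC q (s' + 1)) =
        (q ^ r - 1) * eC q r * aC q (s' + 1) + q ^ (k - 1) * (eC q r * aC q s') := by
      rw [e2, e3]
      linear_combination q ^ r * eC q r * aC_succ hq s' 
    rcases Nat.eq_zero_or_pos r with hr0 | hr0
    · rw [if_neg (by omega)]
      rw [hr0] at e4 ⊢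
      simp only [pow_zero, sub_self, zero_mul, zero_add] at e4
      linear_combination bC q (m + (s' + 1) - k) * e4
    · rw [if_pos (by omega)]
      obtain ⟨r', hr'⟩ : ∃ r', r = r' + 1 := ⟨r - 1, by omega⟩
      rw [hr', eC_succ hq r'] at e4
      rw [hr', show k - 2 * (s' + 1) = r' by omega]
      linear_combination bC q (m + (s' + 1) - k) * e4
  rw [tC, mul_sum, sum_congr rfl fun s _ => hterm s, sum_add_distrib]
  congr 1
  · rw [sum_range_succ]
    simp only [X]
    rw [if_neg (by omega), add_zero]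
    rfl
  · rw [sum_range_succ']
    simp only [Y]
    rw [if_neg (by omega), add_zero]
    split_ifs with hk
    · rw [tC, mul_sum]
      refine sum_congr rfl fun s _ => ?_
      by_cases h : 2 * s ≤ k - 1 ∧ k - 1 ≤ m + s
      · rw [if_pos h, if_pos (by omega), show k + 1 - 2 * (s + 1) = k - 1 - 2 * s by omega,
          Nat.add_sub_cancel, show m + (s + 1) - k = m + s - (k - 1) by omega]
      · rw [if_neg h, if_neg (by omega), mul_zero]
    · exact sum_eq_zero fun s _ => if_neg (by omega)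

theorem tC_alt (hq : 1 < q) (m : ℕ) : ∑ d ∈ range (2 * (m + 1) + 1), (-1 : ℚ) ^ d * tC q (m + 1) d = 0 := by
  set M := m + 1
  let E : PowerSeries ℚ := PowerSeries.mk fun r => (-1) ^ r * eC q r
  let A : PowerSeries ℚ := PowerSeries.mk (aC q)
  have hB : rescale q A = PowerSeries.mk (bC q) := by ext n; simp [A, bC, coeff_rescale]
  have hE : rescale q E = (1 - X) * E := by
    ext n
    rw [sub_mul, one_mul, map_sub, coeff_rescale]
    rcases n with - | r
    · simp [E]
    · rw [coeff_succ_X_mul]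
      simp only [E, coeff_mk, pow_succ (-1 : ℚ)]
      linear_combination -((-1 : ℚ) ^ r) * eC_succ hq r
  have hA : (1 - X) * rescale q (rescale q A) = A := by
    rw [rescale_rescale]
    ext n
    rw [sub_mul, one_mul, map_sub, coeff_rescale]
    rcases n with - | r
    · simp [A]
    · rw [coeff_succ_X_mul, coeff_rescale]
      simp only [A, coeff_mk, ← sq]
      linear_combination aC_succ hq r
  have hfix : rescale q (E * (A * rescale q A)) = E * (A * rescale q A) := by
    rw [map_mul, map_mul, hE]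
    linear_combination (E * rescale q A) * hA
  have hzero : coeff M (E * (A * rescale q A)) = 0 := by
    have h := congrArg (coeff M) hfix
    rw [coeff_rescale] at h
    have : (q ^ M - 1) * coeff M (E * (A * rescale q A)) = 0 := by linear_combination h
    exact (mul_eq_zero.1 this).resolve_left (sub_ne_zero.2 (one_lt_pow₀ hq (by omega)).ne')
  have hval : coeff M (E * (A * rescale q A)) =
      ∑ s ∈ range (M + 1), ∑ r ∈ range (M - s + 1), (-1) ^ r * eC q r * aC q s * bC q (M - s - r) := by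
    rw [mul_left_comm E A, hB, coeff_mul, Finset.Nat.sum_antidiagonal_eq_sum_range_succ
      (fun i j => coeff i A * coeff j (E * PowerSeries.mk (bC q)))]
    refine sum_congr rfl fun s _ => ?_
    rw [coeff_mul, Finset.Nat.sum_antidiagonal_eq_sum_range_succ
      (fun i j => coeff i E * coeff j (PowerSeries.mk (bC q))), mul_sum]
    refine sum_congr rfl fun r _ => ?_
    simp only [A, E, coeff_mk]
    ring
  rw [← hzero, hval]
  simp only [tC, mul_sum]
  rw [sum_comm]
  refine sum_congr rfl fun s hs => ?_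
  have hs' : s ≤ M := by simpa [Nat.lt_succ_iff] using hs
  symm
  calc ∑ r ∈ range (M - s + 1), (-1) ^ r * eC q r * aC q s * bC q (M - s - r)
      = ∑ d ∈ (range (M - s + 1)).image (· + 2 * s),
          (-1) ^ d * (if 2 * s ≤ d ∧ d ≤ M + s then eC q (d - 2 * s) * aC q s * bC q (M + s - d) else 0) := by
        rw [sum_image (fun _ _ _ _ h => Nat.add_right_cancel h)]
        refine sum_congr rfl fun r hr => ?_
        rw [mem_range] at hr
        rw [if_pos (by omega), Nat.add_sub_cancel, show M + s - (r + 2 * s) = M - s - r by omega, pow_add,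
          pow_mul]
        ring
    _ = _ := by
        refine sum_subset (fun d hd => ?_) (fun d _ hd => ?_)
        · simp only [mem_image, mem_range] at hd ⊢
          omega
        · rw [if_neg, mul_zero]
          intro h
          exact hd (mem_image.2 ⟨d - 2 * s, mem_range.2 (by omega), by omega⟩)

/-- the telescoped Gaussian sum -/
theorem gauss_alt (hq : 1 < q) (f D : ℕ) :
    ∑ d ∈ range (D + 1), (-1 : ℚ) ^ d * ((∏ i ∈ range d, (q ^ f - q ^ i)) * eC q d) =
      (-1) ^ D * (∏ i ∈ range D, (q ^ f - q ^ (i + 1))) * eC q D := by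
  induction D with
  | zero => simp
  | succ D ih =>
    rw [sum_range_succ, ih, prod_range_succ' (fun i => q ^ f - q ^ i), prod_range_succ, ← eC_succ hq D, pow_succ]
    simp only [pow_zero]
    ring

theorem gauss_alt_zero (hq : 1 < q) {f : ℕ} (hf : 1 ≤ f) :
    ∑ d ∈ range (f + 1), (-1 : ℚ) ^ d * ((∏ i ∈ range d, (q ^ f - q ^ i)) * eC q d) = 0 := by
  rw [gauss_alt hq f f]
  obtain ⟨g, rfl⟩ : ∃ g, f = g + 1 := ⟨f - 1, by omega⟩
  rw [prod_eq_zero (mem_range.2 (show g < g + 1 by omega)) (sub_self _)]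
  ring

end Cfsg.Agent.SpUnip
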