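import Cfsg.Agent.Lib.Linear.SpUnip.Stab
import Cfsg.Agent.Lib.Linear.SpUnip.Series

/-!
# Counting unipotent isometries of an alternating form
-/

set_option autoImplicit false

namespace Cfsg.Agent.SpUnip

open Module Cfsg.Lib.Linear.Symp

variable {F : Type*} [Field F] [Fintype F]

section Gauss

variable {V : Type*} [AddCommGroup V] [Module F V] [Finite V]

theorem card_subspaces (d : ℕ) :
    Nat.card {W : Submodule F V // finrank F W = d} *
        ∏ i ∈ Finset.range d, (Fintype.card F ^ d - Fintype.card F ^ i) =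
      ∏ i ∈ Finset.range d, (Fintype.card F ^ finrank F V - Fintype.card F ^ i) := by
  classical
  have : FiniteDimensional F V := Module.Finite.of_finite
  have hcard : ∀ (X : Type _) [AddCommGroup X] [Module F X] [Finite X],
      Nat.card {s : Fin d → X // LinearIndependent F s} =
        ∏ i ∈ Finset.range d, (Fintype.card F ^ finrank F X - Fintype.card F ^ i) := by
    intro X _ _ _
    have : Fintype X := Fintype.ofFinite X
    have : FiniteDimensional F X := Module.Finite.of_finite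
    by_cases h : d ≤ finrank F X
    · rw [card_linearIndependent h]
      exact Fin.prod_univ_eq_prod_range (fun i => Fintype.card F ^ finrank F X - Fintype.card F ^ i) d
    · rw [Finset.prod_eq_zero (Finset.mem_range.2 (by omega : finrank F X < d))
          (Nat.sub_self (Fintype.card F ^ finrank F X)),
        Nat.card_eq_zero]
      exact Or.inl ⟨fun s => h (by simpa using s.2.fintype_card_le_finrank)⟩
  rw [← hcard V]
  let e : {s : Fin d → V // LinearIndependent F s} ≃
      Σ W : {W : Submodule F V // finrank F W = d}, {s : Fin d → V // LinearIndependent F s ∧ ∀ i, s i ∈ W.1} :=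
    { toFun := fun s => ⟨⟨Submodule.span F (Set.range s.1), by rw [finrank_span_eq_card s.2, Fintype.card_fin]⟩,
        s.1, s.2, fun i => Submodule.subset_span ⟨i, rfl⟩⟩
      invFun := fun t => ⟨t.2.1, t.2.2.1⟩
      left_inv := fun s => rfl
      right_inv := fun t => by
        obtain ⟨⟨W, hW⟩, s, hs, hsW⟩ := t
        refine Sigma.subtype_ext (Subtype.ext (Submodule.eq_of_le_of_finrank_eq (Submodule.span_le.2 ?_) ?_)) rfl
        · rintro _ ⟨i, rfl⟩; exact hsW i
        · rw [finrank_span_eq_card hs, hW, Fintype.card_fin] }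
  have hfib : ∀ W : {W : Submodule F V // finrank F W = d},
      Nat.card {s : Fin d → V // LinearIndependent F s ∧ ∀ i, s i ∈ W.1} =
        Nat.card {s : Fin d → W.1 // LinearIndependent F s} := fun W => Nat.card_congr
    { toFun := fun s => ⟨fun i => ⟨s.1 i, s.2.2 i⟩, s.2.1.of_comp W.1.subtype⟩
      invFun := fun s => ⟨fun i => (s.1 i : V), s.2.map' W.1.subtype W.1.ker_subtype, fun i => (s.1 i).2⟩
      left_inv := fun s => rfl
      right_inv := fun s => rfl }
  rw [Nat.card_congr e]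
  have := Fintype.ofFinite {W : Submodule F V // finrank F W = d}
  rw [Nat.card_sigma, Nat.card_eq_fintype_card, ← smul_eq_mul, ← Finset.card_univ, ← Finset.sum_const]
  exact Finset.sum_congr rfl fun W _ => by rw [hfib, hcard W.1, W.2]

theorem card_subspaces_cast (d : ℕ) :
    (Nat.card {W : Submodule F V // finrank F W = d} : ℚ) * (Fintype.card F : ℚ) ^ d.choose 2 =
      (∏ i ∈ Finset.range d, ((Fintype.card F : ℚ) ^ finrank F V - (Fintype.card F : ℚ) ^ i)) *
        eC (Fintype.card F : ℚ) d := by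
  set q := Fintype.card F
  have hq : 1 ≤ q := Fintype.card_pos
  have h := card_subspaces (F := F) (V := V) d
  by_cases hd : d ≤ finrank F V
  · have h' := congrArg (Nat.cast (R := ℚ)) h
    rw [Nat.cast_mul, Nat.cast_prod, Nat.cast_prod] at h'
    have e1 : ∀ m, d ≤ m → ∀ i ∈ Finset.range d, ((q ^ m - q ^ i : ℕ) : ℚ) = (q : ℚ) ^ m - (q : ℚ) ^ i :=
      fun m hm i hi => by
        rw [Nat.cast_sub (Nat.pow_le_pow_right hq (by have := Finset.mem_range.1 hi; omega))]; push_cast; ring
    rw [Finset.prod_congr rfl (e1 d le_rfl), Finset.prod_congr rfl (e1 _ hd)] at h'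
    rw [← h', mul_assoc]
    congr 1
    have hP : ∏ i ∈ Finset.range d, ((q : ℚ) ^ (i + 1) - 1) ≠ 0 := Finset.prod_ne_zero_iff.2 fun i _ =>
      sub_ne_zero.2 (one_lt_pow₀ (by exact_mod_cast (Fintype.one_lt_card : 1 < q)) (by omega)).ne'
    rw [eC, eq_mul_inv_iff_mul_eq₀ hP, ← Finset.prod_range_reflect (fun i => (q : ℚ) ^ (i + 1) - 1) d,
      show d.choose 2 = ∑ i ∈ Finset.range d, i by rw [Finset.sum_range_id, Nat.choose_two_right],
      ← Finset.prod_pow_eq_pow_sum, ← Finset.prod_mul_distrib]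
    refine Finset.prod_congr rfl fun i hi => ?_
    rw [Finset.mem_range] at hi
    rw [show d - 1 - i + 1 = d - i by omega, mul_sub, mul_one, ← pow_add, Nat.add_sub_cancel' hi.le]
  · rw [Finset.prod_eq_zero (Finset.mem_range.2 (by omega : finrank F V < d)) (sub_self _)]
    have : IsEmpty {W : Submodule F V // finrank F W = d} := ⟨fun W => hd (W.2 ▸ Submodule.finrank_le _)⟩
    simp

/-- The alternating sum over all subspaces vanishes. -/
theorem subspaces_alt (D : ℕ) (hD : finrank F V ≤ D) (hV : 1 ≤ finrank F V) :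
    ∑ d ∈ Finset.range (D + 1), (-1 : ℚ) ^ d *
      ((Nat.card {W : Submodule F V // finrank F W = d} : ℚ) * (Fintype.card F : ℚ) ^ d.choose 2) = 0 := by
  simp only [card_subspaces_cast]
  rw [← gauss_alt_zero (show (1 : ℚ) < Fintype.card F by exact_mod_cast (Fintype.one_lt_card : 1 < Fintype.card F)) hV]
  refine (Finset.sum_subset (Finset.range_mono (by omega)) fun d _ hd => ?_).symm
  rw [Finset.mem_range] at hd
  rw [Finset.prod_eq_zero (Finset.mem_range.2 (by omega : finrank F V < d)) (sub_self _)]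
  ring

theorem natCard_sub (W : Submodule F V) : Nat.card W = Fintype.card F ^ finrank F W := by
  rw [← Nat.card_eq_fintype_card]; exact Module.natCard_eq_pow_finrank

end Gauss

variable {V : Type*} [AddCommGroup V] [Module F V] [Finite V]

/-- A unipotent isometry with a subspace of fixed vectors of dimension `d`. -/
def Pairs (B : LinearMap.BilinForm F V) (d : ℕ) : Type _ :=
  {p : iso B × Submodule F V // Unip p.1.1 ∧ p.2 ≤ fixSub p.1.1 ∧ finrank F p.2 = d}

instance finite_pairs (B : LinearMap.BilinForm F V) (d : ℕ) : Finite (Pairs B d) := by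
  have : Finite (V ≃ₗ[F] V) := Finite.of_injective (fun g => (g : V → V)) DFunLike.coe_injective
  have : Finite (Submodule F V) := Finite.of_injective (fun W => (W : Set V)) SetLike.coe_injective
  unfold Pairs; infer_instance

/-- the number of pairs -/
noncomputable def sig (B : LinearMap.BilinForm F V) (d : ℕ) : ℕ := Nat.card (Pairs B d)

namespace HPair

variable {B : LinearMap.BilinForm F V} (P : HPair B)

/-- pairs whose subspace contains `e` -/
def Through (k : ℕ) : Type _ := {p : Pairs B k // P.e ∈ p.1.2}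

theorem through_e {k : ℕ} (p : P.Through k) : p.1.1.1.1 P.e = P.e := mem_fixSub.1 (p.1.2.2.1 p.2)

variable [FiniteDimensional F V]

omit [Fintype F] [Finite V] in
theorem toIso_inj {ub ub' : iso P.B'} {a a' : P.W} {c c' : F} (h : P.toIso ub a c = P.toIso ub' a' c') :
    ub = ub' ∧ a = a' ∧ c = c' := by
  have h5 : (ub, a, c) = (ub', a', c') := P.stabEquiv.symm.injective (Subtype.ext h)
  simpa using h5

omit [Fintype F] [Finite V] in
theorem exists_toIso (g : iso B) (h : g.1 P.e = P.e) : ∃ ub a c, P.toIso ub a c = g :=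
  ⟨(P.stabEquiv ⟨g, h⟩).1, (P.stabEquiv ⟨g, h⟩).2.1, (P.stabEquiv ⟨g, h⟩).2.2,
    congrArg Subtype.val (Equiv.symm_apply_apply P.stabEquiv ⟨g, h⟩)⟩

/-- the subspace of the complement -/
def low (W : Submodule F V) : Submodule F P.W := W.comap P.W.subtype

omit [Finite V] [FiniteDimensional F V] [Fintype F] in
theorem mem_low {W : Submodule F V} {w : P.W} : w ∈ P.low W ↔ (w : V) ∈ W := Iff.rfl

omit [Finite V] [FiniteDimensional F V] [Fintype F] in
theorem proj_mem {W : Submodule F V} (he : P.e ∈ W) {x : V} (hx : x ∈ W) (h0 : B P.e x = 0) :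
    P.proj x ∈ P.low W := by
  rw [mem_low, proj_coe, h0, zero_smul, sub_zero]
  exact add_mem hx (W.smul_mem _ he)

/-- rebuild a subspace in `e^⊥` -/
def lift0 (X : Submodule F P.W) : Submodule F V := Submodule.span F {P.e} ⊔ X.map P.W.subtype

omit [Finite V] [FiniteDimensional F V] [Fintype F] in
theorem mem_lift0 {X : Submodule F P.W} {x : V} :
    x ∈ P.lift0 X ↔ ∃ t : F, ∃ w ∈ X, x = t • P.e + (w : V) := by
  constructor
  · intro h
    obtain ⟨a, ha, b, ⟨w, hw, rfl⟩, rfl⟩ := Submodule.mem_sup.1 h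
    obtain ⟨t, rfl⟩ := Submodule.mem_span_singleton.1 ha
    exact ⟨t, w, hw, rfl⟩
  · rintro ⟨t, w, hw, rfl⟩
    exact add_mem (Submodule.mem_sup_left (Submodule.smul_mem _ t (Submodule.mem_span_singleton_self _)))
      (Submodule.mem_sup_right ⟨w, hw, rfl⟩)

omit [Finite V] [FiniteDimensional F V] [Fintype F] in
theorem low_lift0 (X : Submodule F P.W) : P.low (P.lift0 X) = X := by
  ext w
  rw [mem_low, mem_lift0]
  constructor
  · rintro ⟨t, w', hw', h⟩
    have h1 := congrArg P.proj h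
    simp [P.proj_w, P.proj_e] at h1
    rwa [h1]
  · intro hw; exact ⟨0, w, hw, by simp⟩

omit [Finite V] [FiniteDimensional F V] [Fintype F] in
theorem lift0_low {W : Submodule F V} (he : P.e ∈ W) (hW : ∀ x ∈ W, B P.e x = 0) : P.lift0 (P.low W) = W := by
  ext x
  rw [mem_lift0]
  constructor
  · rintro ⟨t, w, hw, rfl⟩
    exact add_mem (W.smul_mem _ he) hw
  · intro hx
    refine ⟨-B P.f x, P.proj x, P.proj_mem he hx (hW x hx), ?_⟩
    conv_lhs => rw [P.decomp x, hW x hx]
    simp

omit [Finite V] [Fintype F] in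
theorem finrank_lift0 (X : Submodule F P.W) : finrank F (P.lift0 X) = finrank F X + 1 := by
  rw [lift0, sup_comm, Submodule.finrank_sup_span_singleton, Submodule.finrank_map_subtype_eq]
  rintro ⟨w, -, hw⟩
  have h := congrArg (B P.f) hw
  simp [P.hfe, (P.w_left w.2).2] at h

omit [Fintype F] in
theorem mk1_spec {k : ℕ} (z : Σ r : Pairs P.B' k, (P.B'.orthogonal r.1.2 : Submodule F P.W) × F) :
    Unip (P.toIso z.1.1.1 z.2.1.1 z.2.2).1 ∧ P.lift0 z.1.1.2 ≤ fixSub (P.toIso z.1.1.1 z.2.1.1 z.2.2).1 ∧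
      finrank F (P.lift0 z.1.1.2) = k + 1 := by
  obtain ⟨⟨⟨ub, X⟩, hu, hX, hdim⟩, ⟨a, ha⟩, c⟩ := z
  refine ⟨(P.unip_toIso ub a c).2 hu, fun x hx => ?_, by rw [P.finrank_lift0, hdim]⟩
  obtain ⟨t, w, hw, rfl⟩ := P.mem_lift0.1 hx
  rw [mem_fixSub, map_add, map_smul, toIso_e, toIso_w, mem_fixSub.1 (hX hw)]
  have : P.B' a w = 0 := P.B'_alt.isRefl _ _ (ha w hw)
  rw [this, zero_smul, zero_add]

omit [Fintype F] [Finite V] [FiniteDimensional F V] in
theorem lift0_perp (X : Submodule F P.W) : ∀ x ∈ P.lift0 X, B P.e x = 0 := by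
  intro x hx
  obtain ⟨t, w, hw, rfl⟩ := P.mem_lift0.1 hx
  simp [P.hee, (P.w_left w.2).1]

/-- the pair inside `e^⊥` with given data -/
noncomputable def mk1 {k : ℕ} (z : Σ r : Pairs P.B' k, (P.B'.orthogonal r.1.2 : Submodule F P.W) × F) :
    {p : P.Through (k + 1) // ∀ x ∈ p.1.1.2, B P.e x = 0} :=
  ⟨⟨⟨(P.toIso z.1.1.1 z.2.1.1 z.2.2, P.lift0 z.1.1.2), P.mk1_spec z⟩,
    Submodule.mem_sup_left (Submodule.mem_span_singleton_self _)⟩, P.lift0_perp _⟩

omit [Fintype F] in
/-- pairs through `e` inside `e^⊥` -/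
theorem card_kind1 (k : ℕ) :
    Nat.card {p : P.Through (k + 1) // ∀ x ∈ p.1.1.2, B P.e x = 0} =
      Nat.card (Σ r : Pairs P.B' k, (P.B'.orthogonal r.1.2 : Submodule F P.W) × F) := by
  symm
  refine Nat.card_eq_of_bijective P.mk1 ⟨?_, ?_⟩
  · rintro ⟨⟨⟨ub, X⟩, h⟩, ⟨a, ha⟩, c⟩ ⟨⟨⟨ub', X'⟩, h'⟩, ⟨a', ha'⟩, c'⟩ heq
    have h0 : (P.toIso ub a c, P.lift0 X) = (P.toIso ub' a' c', P.lift0 X') :=
      congrArg Subtype.val (congrArg Subtype.val (congrArg Subtype.val heq))
    have h2 := congrArg P.low (congrArg Prod.snd h0)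
    simp only [low_lift0] at h2
    obtain ⟨rfl, rfl, rfl⟩ := P.toIso_inj (congrArg Prod.fst h0)
    subst h2
    rfl
  · rintro ⟨⟨⟨⟨g, W⟩, hu, hW, hdim⟩, he⟩, hker⟩
    change W ≤ fixSub g.1 at hW
    change P.e ∈ W at he
    change finrank F W = k + 1 at hdim
    have hge : g.1 P.e = P.e := mem_fixSub.1 (hW he)
    have hex := P.exists_toIso g hge
    obtain ⟨ub, a, c, rfl⟩ := hex
    have hfix : ∀ w ∈ P.low W, ub.1 w = w ∧ P.B' a w = 0 := fun w hw => by
      have h : (P.toIso ub a c).1 (w : V) = (w : V) := mem_fixSub.1 (hW hw)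
      rw [toIso_w] at h
      have h1 := congrArg P.proj h
      have h2 := congrArg (B P.f) h
      simp [P.proj_e, P.proj_w] at h1
      simp [P.hfe, (P.w_left (ub.1 w).2).2, (P.w_left w.2).2, h1] at h2
      exact ⟨h1, h2⟩
    have hl := P.lift0_low he hker
    refine ⟨⟨⟨(ub, P.low W), (P.unip_toIso ub a c).1 hu, fun w hw => mem_fixSub.2 (hfix w hw).1, ?_⟩,
      ⟨a, fun w hw => P.B'_alt.isRefl _ _ (hfix w hw).2⟩, c⟩, ?_⟩
    · have := P.finrank_lift0 (P.low W)
      change finrank F (P.low W) = k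
      rw [hl, hdim] at this
      omega
    · exact Subtype.ext (Subtype.ext (Subtype.ext (Prod.ext rfl hl)))

/-- rebuild a subspace outside `e^⊥` -/
def lift1 (X : Submodule F P.W) (w₀ : P.W) : Submodule F V := P.lift0 X ⊔ Submodule.span F {P.f + (w₀ : V)}

omit [Finite V] [FiniteDimensional F V] [Fintype F] in
theorem low_lift1 (X : Submodule F P.W) (w₀ : P.W) : P.low (P.lift1 X w₀) = X := by
  ext w
  rw [mem_low]
  constructor
  · intro h
    obtain ⟨y, hy, z, hz, hyz⟩ := Submodule.mem_sup.1 h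
    obtain ⟨t, w', hw', rfl⟩ := P.mem_lift0.1 hy
    obtain ⟨s, rfl⟩ := Submodule.mem_span_singleton.1 hz
    have h1 := congrArg (B P.e) hyz
    simp [P.hee, P.hef, (P.w_left w.2).1, (P.w_left w'.2).1, (P.w_left w₀.2).1] at h1
    rw [h1, zero_smul, add_zero] at hyz
    have h2 := congrArg P.proj hyz
    simp [P.proj_w, P.proj_e] at h2
    rwa [← h2]
  · intro hw
    exact Submodule.mem_sup_left (P.mem_lift0.2 ⟨0, w, hw, by simp⟩)

omit [Finite V] [Fintype F] in
theorem finrank_lift1 (X : Submodule F P.W) (w₀ : P.W) : finrank F (P.lift1 X w₀) = finrank F X + 2 := by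
  rw [lift1, Submodule.finrank_sup_span_singleton, P.finrank_lift0]
  intro h
  obtain ⟨t, w, hw, htw⟩ := P.mem_lift0.1 h
  have h1 := congrArg (B P.e) htw
  simp [P.hee, P.hef, (P.w_left w.2).1, (P.w_left w₀.2).1] at h1

/-- pairs through `e` outside `e^⊥`, with a marked vector -/
def Marked (k : ℕ) : Type _ :=
  Σ p : {p : P.Through k // ¬ ∀ x ∈ p.1.1.2, B P.e x = 0}, {x : V // x ∈ p.1.1.1.2 ∧ B P.e x = 1 ∧ B P.f x = 0}

/-- the translation part forced by a fixed vector -/
def aOf (ub : iso P.B') (w₀ : P.W) : P.W := w₀ - ub.1 w₀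

/-- the central part forced by a fixed vector -/
def cOf (ub : iso P.B') (w₀ : P.W) : F := -P.B' (P.aOf ub w₀) (ub.1 w₀)

omit [Fintype F] in
theorem mk2_spec {k : ℕ} (z : Pairs P.B' k × P.W) :
    Unip (P.toIso z.1.1.1 (P.aOf z.1.1.1 z.2) (P.cOf z.1.1.1 z.2)).1 ∧
      P.lift1 z.1.1.2 z.2 ≤ fixSub (P.toIso z.1.1.1 (P.aOf z.1.1.1 z.2) (P.cOf z.1.1.1 z.2)).1 ∧
      finrank F (P.lift1 z.1.1.2 z.2) = k + 2 := by
  obtain ⟨⟨⟨ub, X⟩, hu, hX, hdim⟩, w₀⟩ := z
  refine ⟨(P.unip_toIso _ _ _).2 hu, sup_le (fun x hx => ?_) ?_, by rw [P.finrank_lift1, hdim]⟩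
  · obtain ⟨t, w, hw, rfl⟩ := P.mem_lift0.1 hx
    have hw' : ub.1 w = w := mem_fixSub.1 (hX hw)
    rw [mem_fixSub, map_add, map_smul, toIso_e, toIso_w, hw']
    have : P.B' (P.aOf ub w₀) w = 0 := by
      have h := ub.2 w₀ w
      rw [hw'] at h
      simp only [aOf, map_sub, LinearMap.sub_apply, h, sub_self]
    rw [this, zero_smul, zero_add]
  · rw [Submodule.span_singleton_le_iff_mem, mem_fixSub, map_add, toIso_f, toIso_w]
    simp only [cOf, aOf, AddSubgroupClass.coe_sub]
    module

omit [Fintype F] [Finite V] [FiniteDimensional F V] in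
theorem mk2_out (X : Submodule F P.W) (w₀ : P.W) : ¬ ∀ x ∈ P.lift1 X w₀, B P.e x = 0 := fun h => by
  have h1 := h _ (Submodule.mem_sup_right (Submodule.mem_span_singleton_self _))
  simp [P.hef, (P.w_left w₀.2).1] at h1

omit [Fintype F] [Finite V] [FiniteDimensional F V] in
theorem mk2_mark (X : Submodule F P.W) (w₀ : P.W) :
    P.f + (w₀ : V) ∈ P.lift1 X w₀ ∧ B P.e (P.f + (w₀ : V)) = 1 ∧ B P.f (P.f + (w₀ : V)) = 0 :=
  ⟨Submodule.mem_sup_right (Submodule.mem_span_singleton_self _), by simp [P.hef, (P.w_left w₀.2).1],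
    by simp [P.hff, (P.w_left w₀.2).2]⟩

/-- the marked pair with given data -/
noncomputable def mk2 {k : ℕ} (z : Pairs P.B' k × P.W) : P.Marked (k + 2) :=
  ⟨⟨⟨⟨(P.toIso z.1.1.1 (P.aOf z.1.1.1 z.2) (P.cOf z.1.1.1 z.2), P.lift1 z.1.1.2 z.2), P.mk2_spec z⟩,
    Submodule.mem_sup_left (Submodule.mem_sup_left (Submodule.mem_span_singleton_self _))⟩, P.mk2_out _ _⟩,
    P.f + (z.2 : V), P.mk2_mark _ _⟩

omit [Fintype F] in
theorem card_marked (k : ℕ) :
    Nat.card (P.Marked (k + 2)) = Nat.card (Pairs P.B' k × P.W) := by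
  symm
  refine Nat.card_eq_of_bijective P.mk2 ⟨?_, ?_⟩
  · rintro ⟨⟨⟨ub, X⟩, h⟩, w⟩ ⟨⟨⟨ub', X'⟩, h'⟩, w'⟩ heq
    obtain ⟨h0, hx0⟩ := Sigma.subtype_ext_iff.1 heq
    replace hx0 : P.f + (w : V) = P.f + (w' : V) := hx0
    obtain rfl : w = w' := Subtype.ext (add_left_cancel hx0)
    have h1 : (P.toIso ub (P.aOf ub w) (P.cOf ub w), P.lift1 X w) =
        (P.toIso ub' (P.aOf ub' w) (P.cOf ub' w), P.lift1 X' w) :=
      congrArg Subtype.val (congrArg Subtype.val (congrArg Subtype.val h0))
    have h2 := congrArg P.low (congrArg Prod.snd h1)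
    simp only [low_lift1] at h2
    subst h2
    obtain ⟨rfl, -, -⟩ := P.toIso_inj (congrArg Prod.fst h1)
    rfl
  · rintro ⟨⟨⟨⟨⟨g, W⟩, hu, hW, hdim⟩, he⟩, hker⟩, x, hx, hxe, hxf⟩
    change W ≤ fixSub g.1 at hW
    change P.e ∈ W at he
    change finrank F W = k + 2 at hdim
    have hge : g.1 P.e = P.e := mem_fixSub.1 (hW he)
    have hex := P.exists_toIso g hge
    obtain ⟨ub, a, c, rfl⟩ := hex
    have hxd : x = P.f + (P.proj x : V) := by
      conv_lhs => rw [P.decomp x, hxe, hxf]
      simp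
    have hxfix := mem_fixSub.1 (hW hx)
    rw [hxd, map_add, toIso_f, toIso_w] at hxfix
    have h1 := congrArg P.proj hxfix
    have h2 := congrArg (B P.f) hxfix
    simp [P.proj_e, P.proj_f, P.proj_w] at h1
    simp [P.hfe, P.hff, (P.w_left (ub.1 (P.proj x)).2).2, (P.w_left (P.proj x).2).2, (P.w_left a.2).2] at h2
    have ha : a = P.proj x - ub.1 (P.proj x) := eq_sub_of_add_eq h1
    have hc : c = -P.B' a (ub.1 (P.proj x)) := by linear_combination -h2
    have hl : P.lift1 (P.low W) (P.proj x) = W := by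
      refine le_antisymm (sup_le (fun y hy => ?_) ?_) fun y hy => ?_
      · obtain ⟨t, w, hw, rfl⟩ := P.mem_lift0.1 hy
        exact add_mem (W.smul_mem _ he) hw
      · rw [Submodule.span_singleton_le_iff_mem, ← hxd]; exact hx
      · have hy' : y - B P.e y • x ∈ W := sub_mem hy (W.smul_mem _ hx)
        have h0 : B P.e (y - B P.e y • x) = 0 := by simp [hxe]
        have e1 : y = (y - B P.e y • x) + B P.e y • (P.f + (P.proj x : V)) := by rw [← hxd]; module
        rw [e1]
        refine add_mem (Submodule.mem_sup_left (P.mem_lift0.2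
          ⟨-B P.f (y - B P.e y • x), P.proj (y - B P.e y • x), P.proj_mem he hy' h0, ?_⟩))
          (Submodule.mem_sup_right (Submodule.smul_mem _ _ (Submodule.mem_span_singleton_self _)))
        conv_lhs => rw [P.decomp (y - B P.e y • x), h0]
        simp
    refine ⟨(⟨(ub, P.low W), (P.unip_toIso ub a c).1 hu, fun w hw => ?_, ?_⟩, P.proj x), ?_⟩
    · have h : (P.toIso ub a c).1 (w : V) = (w : V) := mem_fixSub.1 (hW hw)
      rw [toIso_w] at h
      have h := congrArg P.proj h
      simp [P.proj_e, P.proj_w] at h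
      exact mem_fixSub.2 h
    · have := P.finrank_lift1 (P.low W) (P.proj x)
      change finrank F (P.low W) = k
      rw [hl, hdim] at this
      omega
    · subst ha
      subst hc
      exact Sigma.subtype_ext (Subtype.ext (Subtype.ext (Subtype.ext (Prod.ext rfl hl)))) hxd.symm

theorem card_fiber (k : ℕ) (p : {p : P.Through (k + 2) // ¬ ∀ x ∈ p.1.1.2, B P.e x = 0}) :
    Nat.card {x : V // x ∈ p.1.1.1.2 ∧ B P.e x = 1 ∧ B P.f x = 0} = Fintype.card F ^ k := by
  obtain ⟨⟨⟨⟨g, W⟩, hu, hW, hdim⟩, he⟩, hker⟩ := p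
  change Nat.card {x : V // x ∈ W ∧ B P.e x = 1 ∧ B P.f x = 0} = _
  change P.e ∈ W at he
  change finrank F W = k + 2 at hdim
  change ¬ ∀ x ∈ W, B P.e x = 0 at hker
  push Not at hker
  obtain ⟨y, hy, hy0⟩ := hker
  let x0 : V := (B P.e y)⁻¹ • y + B P.f ((B P.e y)⁻¹ • y) • P.e
  have hx0 : x0 ∈ W ∧ B P.e x0 = 1 ∧ B P.f x0 = 0 :=
    ⟨add_mem (W.smul_mem _ hy) (W.smul_mem _ he), by simp [x0, P.hee, hy0], by simp [x0, P.hfe]⟩
  let π : W →ₗ[F] F × F := ((B P.e).prod (B P.f)).comp W.subtype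
  have hsurj : Function.Surjective π := fun ⟨s, t⟩ =>
    ⟨⟨s • x0 - t • P.e, sub_mem (W.smul_mem _ hx0.1) (W.smul_mem _ he)⟩, by
      simp [π, hx0.2.1, hx0.2.2, P.hee, P.hfe]⟩
  have hk : finrank F (LinearMap.ker π) = k := by
    have := LinearMap.finrank_range_add_finrank_ker π
    rw [LinearMap.range_eq_top.2 hsurj, finrank_top, Module.finrank_prod, Module.finrank_self, hdim] at this
    omega
  let e : {x : V // x ∈ W ∧ B P.e x = 1 ∧ B P.f x = 0} ≃ LinearMap.ker π :=
    { toFun := fun x => ⟨⟨x.1 - x0, sub_mem x.2.1 hx0.1⟩, LinearMap.mem_ker.2 (by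
        simp [π, x.2.2.1, x.2.2.2, hx0.2.1, hx0.2.2])⟩
      invFun := fun z => ⟨(z.1 : V) + x0, add_mem z.1.2 hx0.1, by
        have h : π z.1 = 0 := LinearMap.mem_ker.1 z.2
        have h1 : B P.e (z.1 : V) = 0 := congrArg Prod.fst h
        have h2 : B P.f (z.1 : V) = 0 := congrArg Prod.snd h
        simp [h1, h2, hx0.2.1, hx0.2.2]⟩
      left_inv := fun x => Subtype.ext (by simp)
      right_inv := fun z => Subtype.ext (Subtype.ext (by simp)) }
  have : Finite (LinearMap.ker π) := inferInstance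
  rw [Nat.card_congr e, natCard_sub, hk]

/-- the pairs through `e` -/
theorem card_through (m k : ℕ) (hW : finrank F P.W = 2 * m) :
    Nat.card (P.Through (k + 1)) * Fintype.card F ^ k =
      Fintype.card F ^ (2 * m + 1) * (sig P.B' k + if 1 ≤ k then sig P.B' (k - 1) else 0) := by
  classical
  have hf : Finite (P.Through (k + 1)) := by unfold Through; infer_instance
  rw [← Nat.card_congr (Equiv.sumCompl (fun p : P.Through (k + 1) => ∀ x ∈ p.1.1.2, B P.e x = 0)), Nat.card_sum,
    add_mul, mul_add]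
  have hWfin : Finite P.W := inferInstance
  congr 1
  · rw [card_kind1]
    have := Fintype.ofFinite (Pairs P.B' k)
    have h1 : ∀ r : Pairs P.B' k, Nat.card ((P.B'.orthogonal r.1.2 : Submodule F P.W) × F) * Fintype.card F ^ k =
        Fintype.card F ^ (2 * m + 1) := fun r => by
      rw [Nat.card_prod, natCard_sub, LinearMap.BilinForm.finrank_orthogonal P.B'_nd, hW, r.2.2.2,
        Nat.card_eq_fintype_card, ← pow_succ, ← pow_add]
      congr 1
      have := Submodule.finrank_le r.1.2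
      rw [hW, r.2.2.2] at this
      omega
    rw [Nat.card_sigma, Finset.sum_mul, Finset.sum_congr rfl fun r _ => h1 r, Finset.sum_const, Finset.card_univ,
      smul_eq_mul, mul_comm, sig, Nat.card_eq_fintype_card]
  · rcases Nat.eq_zero_or_pos k with rfl | hk
    · rw [if_neg (by omega), mul_zero]
      have : IsEmpty {p : P.Through (0 + 1) // ¬ ∀ x ∈ p.1.1.2, B P.e x = 0} := ⟨fun p => p.2 fun x hx => by
        have hle : Submodule.span F {P.e} ≤ p.1.1.1.2 := (Submodule.span_singleton_le_iff_mem _ _).2 p.1.2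
        have heq := Submodule.eq_of_le_of_finrank_eq hle (by rw [finrank_span_singleton P.he_ne, p.1.1.2.2.2])
        rw [← heq] at hx
        obtain ⟨t, rfl⟩ := Submodule.mem_span_singleton.1 hx
        simp [P.hee]⟩
      rw [Nat.card_of_isEmpty, zero_mul]
    obtain ⟨j, rfl⟩ : ∃ j, k = j + 1 := ⟨k - 1, by omega⟩
    rw [if_pos (show 1 ≤ j + 1 by omega), Nat.add_sub_cancel]
    have hmk := P.card_marked j
    have := Fintype.ofFinite {p : P.Through (j + 2) // ¬ ∀ x ∈ p.1.1.2, B P.e x = 0}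
    have hfin : ∀ p : {p : P.Through (j + 2) // ¬ ∀ x ∈ p.1.1.2, B P.e x = 0},
        Finite {x : V // x ∈ p.1.1.1.2 ∧ B P.e x = 1 ∧ B P.f x = 0} := fun p => inferInstance
    rw [Marked, Nat.card_sigma, Finset.sum_congr rfl fun p _ => P.card_fiber j p, Finset.sum_const, Finset.card_univ,
      smul_eq_mul, ← Nat.card_eq_fintype_card, Nat.card_prod, show Nat.card P.W = Fintype.card F ^ (2 * m) by
        rw [natCard_sub, hW]] at hmk
    rw [pow_succ, ← mul_assoc, hmk, sig, pow_succ]
    ring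

end HPair

variable {B : LinearMap.BilinForm F V}

theorem exists_hpair (hA : B.IsAlt) (hB : B.Nondegenerate) {e : V} (he : e ≠ 0) : ∃ P : HPair B, P.e = e := by
  obtain ⟨x, hx⟩ := exists_apply_ne_zero hB he
  have hx' : B e x ≠ 0 := fun h => hx (hA.isRefl _ _ h)
  exact ⟨⟨hA, hB, e, (B e x)⁻¹ • x, by simp [hx']⟩, rfl⟩

theorem exists_fixed [Nontrivial V] {g : V ≃ₗ[F] V} (hg : Unip g) : fixSub g ≠ ⊥ := by
  intro h
  obtain ⟨n, hn⟩ := hg
  have hinj := LinearMap.ker_eq_bot.1 (show LinearMap.ker ((g : V →ₗ[F] V) - 1) = ⊥ from h)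
  have h1 : Function.Injective ⇑(((g : V →ₗ[F] V) - 1 : Module.End F V) ^ n) := by
    rw [Module.End.coe_pow]; exact hinj.iterate n
  obtain ⟨x, hx⟩ := exists_ne (0 : V)
  exact hx (h1 (by rw [hn]; simp))

theorem alt_sum [Nontrivial V] [FiniteDimensional F V] :
    ∑ d ∈ Finset.range (finrank F V + 1), (-1 : ℚ) ^ d * ((sig B d : ℚ) * (Fintype.card F : ℚ) ^ d.choose 2) = 0 := by
  classical
  have : Finite (V ≃ₗ[F] V) := Finite.of_injective (fun g => (g : V → V)) DFunLike.coe_injective
  have := Fintype.ofFinite {u : iso B // Unip u.1}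
  have hsig : ∀ d, sig B d = ∑ u : {u : iso B // Unip u.1},
      Nat.card {W : Submodule F (fixSub u.1.1) // finrank F W = d} := fun d => by
    rw [← Nat.card_sigma]
    refine Nat.card_congr ((Equiv.sigmaCongrRight fun u => ?_).trans (?_ : (Σ u : {u : iso B // Unip u.1},
      {W : Submodule F V // W ≤ fixSub u.1.1 ∧ finrank F W = d}) ≃ _)).symm
    · refine ((Submodule.MapSubtype.orderIso (fixSub u.1.1)).toEquiv.subtypeEquiv
        (q := fun W : {W : Submodule F V // W ≤ fixSub u.1.1} => finrank F W.1 = d) fun W => ?_).trans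
        (Equiv.subtypeSubtypeEquivSubtypeInter _ (fun W : Submodule F V => finrank F W = d))
      show finrank F W = d ↔ finrank F (W.map (fixSub u.1.1).subtype) = d
      rw [Submodule.finrank_map_subtype_eq]
    · exact { toFun := fun z => ⟨(z.1.1, z.2.1), z.1.2, z.2.2⟩
              invFun := fun p => ⟨⟨p.1.1, p.2.1⟩, p.1.2, p.2.2⟩
              left_inv := fun z => rfl
              right_inv := fun p => rfl }
  simp only [hsig, Nat.cast_sum, Finset.sum_mul, Finset.mul_sum]
  rw [Finset.sum_comm]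
  refine Finset.sum_eq_zero fun u _ => subspaces_alt _ (Submodule.finrank_le _) ?_
  exact Submodule.one_le_finrank_iff.2 (exists_fixed u.2)

/-- the order of the symplectic group -/
def gC (q : ℚ) : ℕ → ℚ
  | 0 => 1
  | m + 1 => (q ^ (2 * m + 2) - 1) * q ^ (2 * m + 1) * gC q m

theorem gC_eq (q : ℚ) (m : ℕ) :
    gC q m = q ^ (m ^ 2) * ∏ i ∈ Finset.range m, ((q ^ 2) ^ (i + 1) - 1) := by
  induction m with
  | zero => simp [gC]
  | succ m ih =>
    rw [gC, ih, Finset.prod_range_succ, show (m + 1) ^ 2 = m ^ 2 + (2 * m + 1) by ring, pow_add, ← pow_mul,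
      show 2 * (m + 1) = 2 * m + 2 by ring]
    ring

theorem gC_bC {q : ℚ} (hq : 1 < q) (m : ℕ) : gC q m * bC q m = q ^ (2 * m ^ 2) := by
  have hP : ∏ i ∈ Finset.range m, ((q ^ 2) ^ (i + 1) - 1) ≠ 0 := Finset.prod_ne_zero_iff.2 fun i _ =>
    sub_ne_zero.2 (one_lt_pow₀ (one_lt_pow₀ hq (by omega)) (by omega)).ne'
  rw [gC_eq, bC, aC, mul_assoc, mul_left_comm (∏ i ∈ Finset.range m, ((q ^ 2) ^ (i + 1) - 1)),
    mul_div_cancel₀ _ hP, ← mul_assoc, ← pow_mul, ← pow_add, ← pow_add]
  congr 1
  rw [Nat.choose_two_right, Nat.mul_div_cancel' (Nat.even_mul_pred_self m).two_dvd]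
  rcases m with - | k
  · rfl
  · simp; ring

theorem sig_top (m : ℕ) {V : Type*} [AddCommGroup V] [Module F V] [Finite V] {B : LinearMap.BilinForm F V}
    (hm : finrank F V = 2 * m) {d : ℕ} (hd : 2 * m < d) : sig B d = 0 := by
  have : FiniteDimensional F V := Module.Finite.of_finite
  have : IsEmpty (Pairs B d) := ⟨fun p => by have := Submodule.finrank_le p.1.2; rw [p.2.2.2, hm] at this; omega⟩
  exact Nat.card_of_isEmpty

/-- The number of pairs. -/
theorem sig_eq : ∀ (m : ℕ) {V : Type*} [AddCommGroup V] [Module F V] [Finite V] (B : LinearMap.BilinForm F V),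
    B.IsAlt → B.Nondegenerate → finrank F V = 2 * m → ∀ d,
      (sig B d : ℚ) * (Fintype.card F : ℚ) ^ d.choose 2 =
        gC (Fintype.card F : ℚ) m * tC (Fintype.card F : ℚ) m d
  | 0, V, _, _, _, B, hA, hB, hm, d => by
    have : FiniteDimensional F V := Module.Finite.of_finite
    rcases Nat.eq_zero_or_pos d with rfl | hd
    · have : Subsingleton V := Module.finrank_zero_iff.1 hm
      have : Unique (Pairs B 0) :=
        { default := ⟨(1, ⊥), ⟨1, Subsingleton.elim _ _⟩, bot_le, finrank_bot F V⟩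
          uniq := fun p => Subtype.ext (Prod.ext (Subtype.ext (LinearEquiv.ext fun x => Subsingleton.elim _ _))
            (Subsingleton.elim _ _)) }
      simp [sig, tC, gC, eC, aC, bC]
    · rw [sig_top 0 hm (by omega)]
      simp [tC, show ¬ d = 0 by omega]
  | m + 1, V, _, _, _, B, hA, hB, hm, d => by
    have : FiniteDimensional F V := Module.Finite.of_finite
    have : Nontrivial V := Module.nontrivial_of_finrank_pos (R := F) (by omega)
    set q : ℚ := (Fintype.card F : ℚ) with hqdef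
    have hq : 1 < q := by rw [hqdef]; exact_mod_cast (Fintype.one_lt_card : 1 < Fintype.card F)
    have hpos : ∀ k, (sig B (k + 1) : ℚ) * q ^ (k + 1).choose 2 = gC q (m + 1) * tC q (m + 1) (k + 1) := by
      intro k
      classical
      let S : V → Type _ := fun v => {p : Pairs B (k + 1) // v ∈ p.1.2}
      have hT : ∀ v : {v : V // v ≠ 0},
          (Nat.card (S v.1) : ℚ) * q ^ (k + 1).choose 2 =
            q ^ (2 * m + 1) * gC q m * (tC q m k + if 1 ≤ k then q ^ (k - 1) * tC q m (k - 1) else 0) := by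
        rintro ⟨v, hv⟩
        obtain ⟨P, rfl⟩ := exists_hpair hA hB hv
        have hW : finrank F P.W = 2 * m := by have := P.finrank_W; omega
        have h := congrArg (Nat.cast (R := ℚ)) (P.card_through m k hW)
        push_cast at h
        rw [← hqdef] at h
        have ih := sig_eq m P.B' P.B'_alt P.B'_nd hW
        change (Nat.card (P.Through (k + 1)) : ℚ) * _ = _
        have hc : (k + 1).choose 2 = k + k.choose 2 := by rw [Nat.choose_succ_succ, Nat.choose_one_right]
        rw [hc, pow_add, ← mul_assoc, h]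
        rcases Nat.eq_zero_or_pos k with rfl | hk
        · simp only [show ¬ (1 ≤ 0) by omega, if_false]
          linear_combination q ^ (2 * m + 1) * ih 0
        · have hk1 : 1 ≤ k := hk
          rw [if_pos hk1, if_pos hk1]
          obtain ⟨j, rfl⟩ : ∃ j, k = j + 1 := ⟨k - 1, by omega⟩
          have i1 := ih (j + 1)
          have i2 := ih j
          have hc' : (j + 1).choose 2 = j + j.choose 2 := by rw [Nat.choose_succ_succ, Nat.choose_one_right]
          rw [hc', pow_add] at i1 ⊢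
          simp only [Nat.add_sub_cancel]
          linear_combination q ^ (2 * m + 1) * i1 + q ^ (2 * m + 1) * q ^ j * i2
      have hfinS : ∀ v, Finite (S v) := fun v => Subtype.finite
      have := Fintype.ofFinite {v : V // v ≠ 0}
      have := Fintype.ofFinite (Pairs B (k + 1))
      have hcount : sig B (k + 1) * (Fintype.card F ^ (k + 1) - 1) = ∑ v : {v : V // v ≠ 0}, Nat.card (S v.1) := by
        rw [← Nat.card_sigma, Nat.card_congr ({
          toFun := fun z => ⟨z.2.1, ⟨⟨z.1.1, z.2.2⟩, fun h => z.1.2 (congrArg Subtype.val h)⟩⟩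
          invFun := fun z => ⟨⟨z.2.1.1, fun h => z.2.2 (Subtype.ext h)⟩, ⟨z.1, z.2.1.2⟩⟩
          left_inv := fun z => rfl
          right_inv := fun z => rfl } : (Σ v : {v : V // v ≠ 0}, S v.1) ≃
            Σ p : Pairs B (k + 1), {x : p.1.2 // x ≠ 0}), Nat.card_sigma, sig, Nat.card_eq_fintype_card]
        have hp : ∀ p : Pairs B (k + 1), Nat.card {x : p.1.2 // x ≠ 0} = Fintype.card F ^ (k + 1) - 1 := fun p => by
          have := Fintype.ofFinite p.1.2
          rw [Nat.card_eq_fintype_card, Fintype.card_subtype_compl, Fintype.card_subtype_eq,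
            ← Nat.card_eq_fintype_card, natCard_sub, p.2.2.2]
        rw [Finset.sum_congr rfl fun p _ => hp p, Finset.sum_const, Finset.card_univ, smul_eq_mul]
      have hc := congrArg (Nat.cast (R := ℚ)) hcount
      rw [Nat.cast_mul, Nat.cast_sum, Nat.cast_sub (Nat.one_le_pow _ _ Fintype.card_pos)] at hc
      push_cast at hc
      rw [← hqdef] at hc
      have hcardv : (Fintype.card {v : V // v ≠ 0} : ℚ) = q ^ (2 * m + 2) - 1 := by
        have := Fintype.ofFinite V
        rw [Fintype.card_subtype_compl, Fintype.card_subtype_eq, ← Nat.card_eq_fintype_card (α := V),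
          Module.natCard_eq_pow_finrank (K := F), Nat.card_eq_fintype_card, hm, Nat.cast_sub (Nat.one_le_pow _ _ Fintype.card_pos),
          show 2 * (m + 1) = 2 * m + 2 by ring]
        push_cast
        rfl
      have hsum : (∑ v : {v : V // v ≠ 0}, (Nat.card (S v.1) : ℚ)) * q ^ (k + 1).choose 2 =
          (q ^ (2 * m + 2) - 1) * (q ^ (2 * m + 1) * gC q m *
            (tC q m k + if 1 ≤ k then q ^ (k - 1) * tC q m (k - 1) else 0)) := by
        rw [Finset.sum_mul, Finset.sum_congr rfl fun v _ => hT v, Finset.sum_const, Finset.card_univ,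
          nsmul_eq_mul, hcardv]
      rw [← tC_succ hq m k] at hsum
      rw [← hc] at hsum
      apply mul_left_cancel₀ (sub_ne_zero.2 (one_lt_pow₀ hq (show k + 1 ≠ 0 by omega)).ne')
      rw [gC]
      linear_combination hsum
    rcases d with - | k
    swap
    · exact hpos k
    have h1 := alt_sum (B := B)
    rw [hm, Finset.sum_range_succ'] at h1
    have h2 := tC_alt hq m
    rw [Finset.sum_range_succ'] at h2
    have h3 : ∑ k ∈ Finset.range (2 * (m + 1)), (-1 : ℚ) ^ (k + 1) * ((sig B (k + 1) : ℚ) * q ^ (k + 1).choose 2) =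
        gC q (m + 1) * ∑ k ∈ Finset.range (2 * (m + 1)), (-1 : ℚ) ^ (k + 1) * tC q (m + 1) (k + 1) := by
      rw [Finset.mul_sum]
      refine Finset.sum_congr rfl fun k _ => ?_
      rw [hpos k]; ring
    rw [h3] at h1
    simp only [pow_zero, one_mul] at h1 h2 ⊢
    linear_combination h1 - gC q (m + 1) * h2

/-- The number of unipotent isometries. -/
theorem card_unip {m : ℕ} (hA : B.IsAlt) (hB : B.Nondegenerate) (hm : finrank F V = 2 * m) :
    Nat.card {u : iso B // Unip u.1} = Fintype.card F ^ (2 * m ^ 2) := by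
  have h := sig_eq m B hA hB hm 0
  rw [tC_zero, gC_bC (by exact_mod_cast (Fintype.one_lt_card : 1 < Fintype.card F)) m] at h
  simp only [Nat.choose_zero_succ, pow_zero, mul_one] at h
  have he : sig B 0 = Nat.card {u : iso B // Unip u.1} := by
    refine Nat.card_congr
      { toFun := fun p => ⟨p.1.1, p.2.1⟩
        invFun := fun u => ⟨(u.1, ⊥), u.2, bot_le, finrank_bot F V⟩
        left_inv := fun p => ?_
        right_inv := fun u => rfl }
    have : FiniteDimensional F V := Module.Finite.of_finite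
    exact Subtype.ext (Prod.ext rfl (Submodule.finrank_eq_zero.1 p.2.2.2).symm)
  rw [← he]
  exact_mod_cast h

end Cfsg.Agent.SpUnip
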