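import Cfsg.Agent.Lib.Linear.SpUnip.Count
import Cfsg.Agent.Lib.Linear.SymplecticGroup

/-!
# The number of unipotent elements of `Sp_{2m}(q)`
-/

set_option autoImplicit false

namespace Cfsg.Agent.SpUnip

open Module Cfsg.Lib.Linear.Symp

variable {F V : Type*} [Field F] [AddCommGroup V] [Module F V] [Finite V]

theorem orderOf_pow_iff_unip (p : ℕ) [Fact p.Prime] [CharP F p] (g : V ≃ₗ[F] V) :
    (∃ k : ℕ, orderOf g = p ^ k) ↔ Unip g := by
  rcases subsingleton_or_nontrivial V with h | h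
  · refine iff_of_true ⟨0, ?_⟩ ⟨1, LinearMap.ext fun x => Subsingleton.elim _ _⟩
    rw [pow_zero, orderOf_eq_one_iff]
    exact LinearEquiv.ext fun x => Subsingleton.elim _ _
  have : CharP (Module.End F V) p :=
    charP_of_injective_algebraMap (FaithfulSMul.algebraMap_injective F (Module.End F V)) p
  have hkey : ∀ k : ℕ, g ^ p ^ k = 1 ↔ ((g : Module.End F V) - 1) ^ p ^ k = 0 := fun k => by
    rw [sub_pow_char_pow_of_commute (p := p) (h := Commute.one_right _), one_pow, sub_eq_zero]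
    have hc : ∀ n : ℕ, ((g ^ n : V ≃ₗ[F] V) : Module.End F V) = (g : Module.End F V) ^ n := fun n => by
      induction n with
      | zero => rfl
      | succ n ih => rw [pow_succ, pow_succ, ← ih]; rfl
    rw [← hc]
    exact ⟨fun h => by rw [h]; rfl, fun h => LinearEquiv.toLinearMap_injective h⟩
  constructor
  · rintro ⟨k, hk⟩
    exact ⟨p ^ k, (hkey k).1 (hk ▸ pow_orderOf_eq_one g)⟩
  · rintro ⟨n, hn⟩
    have hp := Fact.out (p := p.Prime)
    have h0 : ((g : Module.End F V) - 1) ^ p ^ n = 0 :=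
      pow_eq_zero_of_le (Nat.lt_pow_self hp.one_lt).le hn
    obtain ⟨k, -, hk⟩ := (Nat.dvd_prime_pow hp).1 (orderOf_dvd_of_pow_eq_one ((hkey n).2 h0))
    exact ⟨k, hk⟩

/-- The statement for the matrix group. -/
theorem card_symplectic_unip [Fintype F] (p : ℕ) [Fact p.Prime] [CharP F p] (m : ℕ) :
    Nat.card {g : ↥(Matrix.symplecticGroup (Fin m) F) // ∃ k : ℕ, orderOf g = p ^ k} =
      Fintype.card F ^ (2 * m ^ 2) := by
  rw [← card_unip (B := spB m F) (spB_isAlt m F) (spB_nondegenerate m F) (finrank_space (m := m) (F := F))]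
  refine Nat.card_congr (spEquiv.toEquiv.subtypeEquiv fun g => ?_)
  show (∃ k, orderOf g = p ^ k) ↔ Unip (spEquiv g).1
  rw [← orderOf_pow_iff_unip p, Subgroup.orderOf_coe, MulEquiv.orderOf_eq]

end Cfsg.Agent.SpUnip
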