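import Cfsg.Agent.Lib.Linear.Alternating

/-!
# The stabiliser of a vector in a symplectic group
-/

set_option autoImplicit false

namespace Cfsg.Agent.SpUnip

open Module Cfsg.Lib.Linear.Symp

variable {F V : Type*} [Field F] [AddCommGroup V] [Module F V]

/-- `g - 1` is nilpotent -/
def Unip (g : V ≃ₗ[F] V) : Prop := IsNilpotent ((g : V →ₗ[F] V) - 1)

/-- the vectors fixed by `g` -/
def fixSub (g : V ≃ₗ[F] V) : Submodule F V := LinearMap.ker ((g : V →ₗ[F] V) - 1)

theorem mem_fixSub {g : V ≃ₗ[F] V} {x : V} : x ∈ fixSub g ↔ g x = x := by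
  simp [fixSub, sub_eq_zero]

/-- a hyperbolic pair -/
structure HPair (B : LinearMap.BilinForm F V) where
  alt : B.IsAlt
  nd : B.Nondegenerate
  e : V
  f : V
  hef : B e f = 1

namespace HPair

variable {B : LinearMap.BilinForm F V} (P : HPair B)

/-- the orthogonal complement of the pair -/
def W : Submodule F V := LinearMap.ker (B P.e) ⊓ LinearMap.ker (B P.f)

/-- the form on the complement -/
def B' : LinearMap.BilinForm F P.W := B.restrict P.W

theorem hfe : B P.f P.e = -1 := by rw [← LinearMap.IsAlt.neg P.alt, P.hef]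

theorem hee : B P.e P.e = 0 := P.alt.self_eq_zero _

theorem hff : B P.f P.f = 0 := P.alt.self_eq_zero _

theorem he_ne : P.e ≠ 0 := fun h => by simpa [h] using P.hef

theorem w_left {w : V} (hw : w ∈ P.W) : B P.e w = 0 ∧ B P.f w = 0 := hw

theorem w_right {w : V} (hw : w ∈ P.W) : B w P.e = 0 ∧ B w P.f = 0 :=
  ⟨P.alt.isRefl _ _ hw.1, P.alt.isRefl _ _ hw.2⟩

/-- the projection on the complement -/
def proj : V →ₗ[F] P.W :=
  (LinearMap.id - (B P.e).smulRight P.f + (B P.f).smulRight P.e).codRestrict P.W fun x => by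
    constructor <;> simp [LinearMap.mem_ker, P.hef, P.hfe, P.hee, P.hff, map_add, map_sub, map_smul]

theorem proj_coe (x : V) : (P.proj x : V) = x - B P.e x • P.f + B P.f x • P.e := rfl

theorem decomp (x : V) : x = -B P.f x • P.e + B P.e x • P.f + (P.proj x : V) := by
  rw [proj_coe]; module

theorem proj_w (w : P.W) : P.proj w = w := by
  refine Subtype.ext ?_
  rw [proj_coe, (P.w_left w.2).1, (P.w_left w.2).2]; simp

theorem proj_e : P.proj P.e = 0 := by
  refine Subtype.ext ?_
  rw [proj_coe, P.hee, P.hfe]; simp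

theorem proj_f : P.proj P.f = 0 := by
  refine Subtype.ext ?_
  rw [proj_coe, P.hef, P.hff]; simp

theorem form_eq (x y : V) : B x y =
    -B P.f x * B P.e y + B P.e x * B P.f y + P.B' (P.proj x) (P.proj y) := by
  conv_lhs => rw [P.decomp x, P.decomp y]
  simp only [map_add, map_smul, LinearMap.add_apply, LinearMap.smul_apply, smul_eq_mul, P.hee, P.hef, P.hfe,
    P.hff, (P.w_left (P.proj y).2).1, (P.w_left (P.proj y).2).2, (P.w_right (P.proj x).2).1,
    (P.w_right (P.proj x).2).2, B', LinearMap.BilinForm.restrict_apply, LinearMap.domRestrict_apply]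
  ring

theorem B'_alt : P.B'.IsAlt := fun w => P.alt.self_eq_zero _

theorem B'_nd : P.B'.Nondegenerate := by
  have h : ∀ w : P.W, (∀ y, P.B' w y = 0) → w = 0 := by
    intro w hw
    refine Subtype.ext (P.nd.1 (w : V) fun y => ?_)
    rw [form_eq, (P.w_left w.2).1, (P.w_left w.2).2, proj_w, hw]; ring
  exact ⟨h, fun w hw => h w fun y => P.B'_alt.isRefl _ _ (hw y)⟩

/-- coordinates -/
def split : V ≃ₗ[F] (F × F) × P.W where
  toFun x := ((-B P.f x, B P.e x), P.proj x)
  map_add' x y := by simp [add_comm]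
  map_smul' c x := by simp
  invFun z := z.1.1 • P.e + z.1.2 • P.f + (z.2 : V)
  left_inv x := (P.decomp x).symm
  right_inv z := by
    simp [P.hee, P.hef, P.hfe, P.hff, (P.w_left z.2.2).1, (P.w_left z.2.2).2, P.proj_e, P.proj_f, P.proj_w]

theorem finrank_W [FiniteDimensional F V] : finrank F V = finrank F P.W + 2 := by
  rw [P.split.finrank_eq, Module.finrank_prod, Module.finrank_prod, Module.finrank_self]; omega

variable (ub : iso P.B') (a : P.W) (c : F)

/-- The isometry with data `(ub, a, c)`. -/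
noncomputable def mapFun : V →ₗ[F] V :=
  let y : V →ₗ[F] F := B P.e
  let w : V →ₗ[F] P.W := (ub.1 : P.W →ₗ[F] P.W).comp P.proj + y.smulRight a
  (-B P.f + c • y + (P.B' a).comp ((ub.1 : P.W →ₗ[F] P.W).comp P.proj)).smulRight P.e + y.smulRight P.f +
    P.W.subtype.comp w

theorem mapFun_apply (x : V) : P.mapFun ub a c x =
    (-B P.f x + c * B P.e x + P.B' a (ub.1 (P.proj x))) • P.e + B P.e x • P.f +
      ((ub.1 (P.proj x) + B P.e x • a : P.W) : V) := rfl

theorem mapFun_coords (x : V) :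
    B P.e (P.mapFun ub a c x) = B P.e x ∧
      -B P.f (P.mapFun ub a c x) = -B P.f x + c * B P.e x + P.B' a (ub.1 (P.proj x)) ∧
        P.proj (P.mapFun ub a c x) = ub.1 (P.proj x) + B P.e x • a := by
  rw [mapFun_apply]
  set w := ub.1 (P.proj x) + B P.e x • a
  refine ⟨?_, ?_, ?_⟩ <;>
    simp [P.hee, P.hef, P.hfe, P.hff, (P.w_left w.2).1, (P.w_left w.2).2, P.proj_e, P.proj_f, P.proj_w]

theorem mapFun_isometry (x y : V) : B (P.mapFun ub a c x) (P.mapFun ub a c y) = B x y := by
  obtain ⟨h1, h2, h3⟩ := P.mapFun_coords ub a c x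
  obtain ⟨k1, k2, k3⟩ := P.mapFun_coords ub a c y
  have h2' : B P.f (P.mapFun ub a c x) = B P.f x - c * B P.e x - P.B' a (ub.1 (P.proj x)) := by
    linear_combination -h2
  have k2' : B P.f (P.mapFun ub a c y) = B P.f y - c * B P.e y - P.B' a (ub.1 (P.proj y)) := by
    linear_combination -k2
  rw [P.form_eq (P.mapFun ub a c x), P.form_eq x y, h1, h2', h3, k1, k2', k3]
  simp only [map_add, map_smul, LinearMap.add_apply, LinearMap.smul_apply, smul_eq_mul,
    ub.2 (P.proj x) (P.proj y), P.B'_alt.self_eq_zero]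
  rw [← LinearMap.IsAlt.neg P.B'_alt (ub.1 (P.proj x)) a]
  ring

variable [FiniteDimensional F V]

/-- The element of the stabiliser. -/
noncomputable def toIso : iso B :=
  ⟨LinearEquiv.ofInjectiveEndo (P.mapFun ub a c) ((injective_iff_map_eq_zero _).2 fun x hx => P.nd.1 x fun y => by
      rw [← P.mapFun_isometry ub a c x y, hx]; simp),
    fun x y => P.mapFun_isometry ub a c x y⟩

theorem toIso_apply (x : V) : (P.toIso ub a c).1 x = P.mapFun ub a c x := rfl

theorem toIso_e : (P.toIso ub a c).1 P.e = P.e := by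
  rw [toIso_apply, mapFun_apply, P.hfe, P.hee, P.proj_e]
  simp

theorem toIso_w (w : P.W) : (P.toIso ub a c).1 (w : V) = P.B' a (ub.1 w) • P.e + (ub.1 w : V) := by
  rw [toIso_apply, mapFun_apply, (P.w_left w.2).1, (P.w_left w.2).2, P.proj_w]
  simp

theorem toIso_f : (P.toIso ub a c).1 P.f = c • P.e + P.f + (a : V) := by
  rw [toIso_apply, mapFun_apply, P.hef, P.hff, P.proj_f]
  simp

omit [FiniteDimensional F V] in
theorem data_of_iso {g : V ≃ₗ[F] V} (hg : g ∈ iso B) (he : g P.e = P.e) (x : V) :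
    B P.e (g x) = B P.e x ∧ P.proj (g x) = P.proj (g (P.proj x : V)) + B P.e x • P.proj (g P.f) := by
  refine ⟨by conv_lhs => rw [← he, hg], ?_⟩
  conv_lhs => rw [P.decomp x]
  simp only [map_add, map_smul, he, P.proj_e, smul_zero, zero_add]
  rw [add_comm]

/-- The stabiliser of `e` in coordinates. -/
noncomputable def stabEquiv : {g : iso B // g.1 P.e = P.e} ≃ iso P.B' × P.W × F where
  toFun g :=
    (⟨LinearEquiv.ofInjectiveEndo (P.proj.comp ((g.1.1 : V →ₗ[F] V).comp P.W.subtype))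
      ((injective_iff_map_eq_zero _).2 fun w hw => P.B'_nd.1 w fun z => by
        have h := g.1.2 (w : V) (z : V)
        rw [P.form_eq (g.1.1 (w : V)), (P.data_of_iso g.1.2 g.2 (w : V)).1, (P.data_of_iso g.1.2 g.2 (z : V)).1,
          (P.w_left w.2).1, (P.w_left z.2).1, show P.proj (g.1.1 (w : V)) = 0 from hw] at h
        simpa [B', LinearMap.BilinForm.restrict_apply] using h.symm), fun w z => by
        have h := g.1.2 (w : V) (z : V)
        rw [P.form_eq (g.1.1 (w : V)), (P.data_of_iso g.1.2 g.2 (w : V)).1, (P.data_of_iso g.1.2 g.2 (z : V)).1,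
          (P.w_left w.2).1, (P.w_left z.2).1] at h
        simpa [B', LinearMap.BilinForm.restrict_apply] using h⟩,
      P.proj (g.1.1 P.f), -B P.f (g.1.1 P.f))
  invFun d := ⟨P.toIso d.1 d.2.1 d.2.2, P.toIso_e _ _ _⟩
  left_inv g := by
    refine Subtype.ext (Subtype.ext (LinearEquiv.ext fun x => ?_))
    rw [toIso_apply, mapFun_apply]
    simp only [LinearEquiv.ofInjectiveEndo, LinearEquiv.ofBijective_apply, LinearMap.comp_apply,
      Submodule.subtype_apply, LinearEquiv.coe_coe]
    obtain ⟨h1, h3⟩ := P.data_of_iso g.1.2 g.2 x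
    conv_rhs => rw [P.decomp (g.1.1 x)]
    rw [h3, h1]
    refine congrArg₂ (· + ·) (congrArg₂ (· + ·) (congrArg (· • P.e) ?_) rfl) rfl
    -- the coefficient of `e`
    have hx : g.1.1 x = -B P.f x • P.e + B P.e x • g.1.1 P.f + g.1.1 (P.proj x : V) := by
      conv_lhs => rw [P.decomp x]
      simp [map_add, map_smul, g.2]
    have hw : B (g.1.1 P.f) (g.1.1 (P.proj x : V)) = 0 := by
      rw [g.1.2]; exact (P.w_left (P.proj x).2).2
    rw [P.form_eq (g.1.1 P.f), (P.data_of_iso g.1.2 g.2 (P.proj x : V)).1, (P.w_left (P.proj x).2).1,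
      (P.data_of_iso g.1.2 g.2 P.f).1, P.hef] at hw
    rw [hx]
    simp only [map_add, map_smul, smul_eq_mul, P.hfe]
    change -B P.f x + -B P.f (g.1.1 P.f) * B P.e x + P.B' (P.proj (g.1.1 P.f)) (P.proj (g.1.1 (P.proj x : V))) = _
    linear_combination hw
  right_inv d := by
    obtain ⟨ub, a, c⟩ := d
    refine Prod.ext (Subtype.ext (LinearEquiv.ext fun w => ?_)) (Prod.ext ?_ ?_)
    · show P.proj ((P.toIso ub a c).1 (w : V)) = ub.1 w
      rw [toIso_w]; simp [P.proj_e, P.proj_w]
    · show P.proj ((P.toIso ub a c).1 P.f) = a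
      rw [toIso_f]; simp [P.proj_e, P.proj_f, P.proj_w]
    · show -B P.f ((P.toIso ub a c).1 P.f) = c
      rw [toIso_f]; simp [P.hfe, P.hff, (P.w_left a.2).2]

theorem stabEquiv_symm (d : iso P.B' × P.W × F) : (P.stabEquiv.symm d).1 = P.toIso d.1 d.2.1 d.2.2 := rfl

theorem unip_toIso : Unip (P.toIso ub a c).1 ↔ Unip ub.1 := by
  set N := ((P.toIso ub a c).1 : V →ₗ[F] V) - 1
  set N' := (ub.1 : P.W →ₗ[F] P.W) - 1
  have hN : ∀ x, N x = (P.toIso ub a c).1 x - x := fun x => rfl
  have hN' : ∀ x, N' x = ub.1 x - x := fun x => rfl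
  have h1 : ∀ x, B P.e (N x) = 0 := fun x => by
    rw [hN, map_sub, toIso_apply, (P.mapFun_coords ub a c x).1, sub_self]
  have h2 : ∀ x, B P.e x = 0 → P.proj (N x) = N' (P.proj x) := fun x hx => by
    rw [hN, hN', map_sub, toIso_apply, (P.mapFun_coords ub a c x).2.2, hx, zero_smul, add_zero]
  have h3 : ∀ (n : ℕ) (x : V), B P.e x = 0 → B P.e ((N ^ n) x) = 0 ∧ P.proj ((N ^ n) x) = (N' ^ n) (P.proj x) := by
    intro n
    induction n with
    | zero => intro x hx; exact ⟨hx, rfl⟩
    | succ n ih =>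
      intro x hx
      obtain ⟨i1, i2⟩ := ih x hx
      rw [pow_succ', pow_succ', Module.End.mul_apply, Module.End.mul_apply]
      exact ⟨h1 _, by rw [h2 _ i1, i2]⟩
  constructor
  · rintro ⟨n, hn⟩
    refine ⟨n, LinearMap.ext fun w => ?_⟩
    have h := (h3 n (w : V) (P.w_left w.2).1).2
    rw [show ((P.toIso ub a c).1 : V →ₗ[F] V) - 1 = N from rfl] at hn
    rw [hn, P.proj_w] at h
    simpa using h.symm
  · rintro ⟨n, hn⟩
    refine ⟨1 + n + 1, LinearMap.ext fun x => ?_⟩
    rw [show ((P.toIso ub a c).1 : V →ₗ[F] V) - 1 = N from rfl, show 1 + n + 1 = (n + 1) + 1 by omega,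
      pow_succ, Module.End.mul_apply, pow_succ', Module.End.mul_apply]
    obtain ⟨i1, i2⟩ := h3 n _ (h1 x)
    rw [show (ub.1 : P.W →ₗ[F] P.W) - 1 = N' from rfl] at hn
    rw [hn, LinearMap.zero_apply] at i2
    have h4 := P.decomp ((N ^ n) (N x))
    rw [i1, i2, zero_smul, add_zero, ZeroMemClass.coe_zero, add_zero] at h4
    rw [h4, map_smul, show N P.e = 0 by rw [hN, toIso_e, sub_self], smul_zero, LinearMap.zero_apply]

end HPair

end Cfsg.Agent.SpUnip
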